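import Cfsg.Agent.OD.Pre
import Cfsg.Agent.H6.TCTop
import Cfsg.Agent.H6.HST2.D0
import Cfsg.Agent.H6.HST2.D1
set_option autoImplicit false
set_option maxRecDepth 100000
set_option Elab.async false
set_option linter.all false
namespace CfH6.HST2
open CfH6
noncomputable def u32 : Tr := (Tr.n (Tr.n (Tr.n (Tr.n (Tr.n t0 t1) (Tr.n t2 t3)) (Tr.n (Tr.n t4 t5) (Tr.n t6 t7))) (Tr.n (Tr.n (Tr.n t8 t9) (Tr.n t10 t11)) (Tr.n (Tr.n t12 t13) (Tr.n t14 t15)))) (Tr.n (Tr.n (Tr.n (Tr.n t16 t17) (Tr.n t18 t19)) (Tr.n (Tr.n t20 t21) (Tr.n t22 t23))) (Tr.n (Tr.n (Tr.n t24 t25) (Tr.n t26 t27)) (Tr.n (Tr.n t28 t29) (Tr.n t30 t31)))))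
noncomputable def u65 : Tr := (Tr.n (Tr.n (Tr.n (Tr.n (Tr.n t33 t34) (Tr.n t35 t36)) (Tr.n (Tr.n t37 t38) (Tr.n t39 t40))) (Tr.n (Tr.n (Tr.n t41 t42) (Tr.n t43 t44)) (Tr.n (Tr.n t45 t46) (Tr.n t47 t48)))) (Tr.n (Tr.n (Tr.n (Tr.n t49 t50) (Tr.n t51 t52)) (Tr.n (Tr.n t53 t54) (Tr.n t55 t56))) (Tr.n (Tr.n (Tr.n t57 t58) (Tr.n t59 t60)) (Tr.n (Tr.n t61 t62) (Tr.n t63 t64)))))
noncomputable def tab0 : Tr := (Tr.n u32 u65)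
noncomputable def u98 : Tr := (Tr.n (Tr.n (Tr.n (Tr.n (Tr.n t66 t67) (Tr.n t68 t69)) (Tr.n (Tr.n t70 t71) (Tr.n t72 t73))) (Tr.n (Tr.n (Tr.n t74 t75) (Tr.n t76 t77)) (Tr.n (Tr.n t78 t79) (Tr.n t80 t81)))) (Tr.n (Tr.n (Tr.n (Tr.n t82 t83) (Tr.n t84 t85)) (Tr.n (Tr.n t86 t87) (Tr.n t88 t89))) (Tr.n (Tr.n (Tr.n t90 t91) (Tr.n t92 t93)) (Tr.n (Tr.n t94 t95) (Tr.n t96 t97)))))
noncomputable def u131 : Tr := (Tr.n (Tr.n (Tr.n (Tr.n (Tr.n t99 t100) (Tr.n t101 t102)) (Tr.n (Tr.n t103 t104) (Tr.n t105 t106))) (Tr.n (Tr.n (Tr.n t107 t108) (Tr.n t109 t110)) (Tr.n (Tr.n t111 t112) (Tr.n t113 t114)))) (Tr.n (Tr.n (Tr.n (Tr.n t115 t116) (Tr.n t117 t118)) (Tr.n (Tr.n t119 t120) (Tr.n t121 t122))) (Tr.n (Tr.n (Tr.n t123 t124) (Tr.n t125 t126)) (Tr.n (Tr.n t127 t128) (Tr.n t129 t130)))))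
noncomputable def tab1 : Tr := (Tr.n u98 u131)
noncomputable def u164 : Tr := (Tr.n (Tr.n (Tr.n (Tr.n (Tr.n t132 t133) (Tr.n t134 t135)) (Tr.n (Tr.n t136 t137) (Tr.n t138 t139))) (Tr.n (Tr.n (Tr.n t140 t141) (Tr.n t142 t143)) (Tr.n (Tr.n t144 t145) (Tr.n t146 t147)))) (Tr.n (Tr.n (Tr.n (Tr.n t148 t149) (Tr.n t150 t151)) (Tr.n (Tr.n t152 t153) (Tr.n t154 t155))) (Tr.n (Tr.n (Tr.n t156 t157) (Tr.n t158 t159)) (Tr.n (Tr.n t160 t161) (Tr.n t162 t163)))))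
noncomputable def u197 : Tr := (Tr.n (Tr.n (Tr.n (Tr.n (Tr.n t165 t166) (Tr.n t167 t168)) (Tr.n (Tr.n t169 t170) (Tr.n t171 t172))) (Tr.n (Tr.n (Tr.n t173 t174) (Tr.n t175 t176)) (Tr.n (Tr.n t177 t178) (Tr.n t179 t180)))) (Tr.n (Tr.n (Tr.n (Tr.n t181 t182) (Tr.n t183 t184)) (Tr.n (Tr.n t185 t186) (Tr.n t187 t188))) (Tr.n (Tr.n (Tr.n t189 t190) (Tr.n t191 t192)) (Tr.n (Tr.n t193 t194) (Tr.n t195 t196)))))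
noncomputable def tab2 : Tr := (Tr.n u164 u197)
noncomputable def u230 : Tr := (Tr.n (Tr.n (Tr.n (Tr.n (Tr.n t198 t199) (Tr.n t200 t201)) (Tr.n (Tr.n t202 t203) (Tr.n t204 t205))) (Tr.n (Tr.n (Tr.n t206 t207) (Tr.n t208 t209)) (Tr.n (Tr.n t210 t211) (Tr.n t212 t213)))) (Tr.n (Tr.n (Tr.n (Tr.n t214 t215) (Tr.n t216 t217)) (Tr.n (Tr.n t218 t219) (Tr.n t220 t221))) (Tr.n (Tr.n (Tr.n t222 t223) (Tr.n t224 t225)) (Tr.n (Tr.n t226 t227) (Tr.n t228 t229)))))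
noncomputable def u263 : Tr := (Tr.n (Tr.n (Tr.n (Tr.n (Tr.n t231 t232) (Tr.n t233 t234)) (Tr.n (Tr.n t235 t236) (Tr.n t237 t238))) (Tr.n (Tr.n (Tr.n t239 t240) (Tr.n t241 t242)) (Tr.n (Tr.n t243 t244) (Tr.n t245 t246)))) (Tr.n (Tr.n (Tr.n (Tr.n t247 t248) (Tr.n t249 t250)) (Tr.n (Tr.n t251 t252) (Tr.n t253 t254))) (Tr.n (Tr.n (Tr.n t255 t256) (Tr.n t257 t258)) (Tr.n (Tr.n t259 t260) (Tr.n t261 t262)))))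
noncomputable def tab3 : Tr := (Tr.n u230 u263)
noncomputable def u296 : Tr := (Tr.n (Tr.n (Tr.n (Tr.n (Tr.n t264 t265) (Tr.n t266 t267)) (Tr.n (Tr.n t268 t269) (Tr.n t270 t271))) (Tr.n (Tr.n (Tr.n t272 t273) (Tr.n t274 t275)) (Tr.n (Tr.n t276 t277) (Tr.n t278 t279)))) (Tr.n (Tr.n (Tr.n (Tr.n t280 t281) (Tr.n t282 t283)) (Tr.n (Tr.n t284 t285) (Tr.n t286 t287))) (Tr.n (Tr.n (Tr.n t288 t289) (Tr.n t290 t291)) (Tr.n (Tr.n t292 t293) (Tr.n t294 t295)))))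
noncomputable def u329 : Tr := (Tr.n (Tr.n (Tr.n (Tr.n (Tr.n t297 t298) (Tr.n t299 t300)) (Tr.n (Tr.n t301 t302) (Tr.n t303 t304))) (Tr.n (Tr.n (Tr.n t305 t306) (Tr.n t307 t308)) (Tr.n (Tr.n t309 t310) (Tr.n t311 t312)))) (Tr.n (Tr.n (Tr.n (Tr.n t313 t314) (Tr.n t315 t316)) (Tr.n (Tr.n t317 t318) (Tr.n t319 t320))) (Tr.n (Tr.n (Tr.n t321 t322) (Tr.n t323 t324)) (Tr.n (Tr.n t325 t326) (Tr.n t327 t328)))))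
noncomputable def tab4 : Tr := (Tr.n u296 u329)
noncomputable def u362 : Tr := (Tr.n (Tr.n (Tr.n (Tr.n (Tr.n t330 t331) (Tr.n t332 t333)) (Tr.n (Tr.n t334 t335) (Tr.n t336 t337))) (Tr.n (Tr.n (Tr.n t338 t339) (Tr.n t340 t341)) (Tr.n (Tr.n t342 t343) (Tr.n t344 t345)))) (Tr.n (Tr.n (Tr.n (Tr.n t346 t347) (Tr.n t348 t349)) (Tr.n (Tr.n t350 t351) (Tr.n t352 t353))) (Tr.n (Tr.n (Tr.n t354 t355) (Tr.n t356 t357)) (Tr.n (Tr.n t358 t359) (Tr.n t360 t361)))))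
noncomputable def u395 : Tr := (Tr.n (Tr.n (Tr.n (Tr.n (Tr.n t363 t364) (Tr.n t365 t366)) (Tr.n (Tr.n t367 t368) (Tr.n t369 t370))) (Tr.n (Tr.n (Tr.n t371 t372) (Tr.n t373 t374)) (Tr.n (Tr.n t375 t376) (Tr.n t377 t378)))) (Tr.n (Tr.n (Tr.n (Tr.n t379 t380) (Tr.n t381 t382)) (Tr.n (Tr.n t383 t384) (Tr.n t385 t386))) (Tr.n (Tr.n (Tr.n t387 t388) (Tr.n t389 t390)) (Tr.n (Tr.n t391 t392) (Tr.n t393 t394)))))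
noncomputable def tab5 : Tr := (Tr.n u362 u395)
noncomputable def tab6 : Tr := (Tr.l (nat_lit 0))
noncomputable def tab7 : Tr := (Tr.l (nat_lit 0))
noncomputable def u428 : Tr := (Tr.n (Tr.n (Tr.n (Tr.n (Tr.n t396 t397) (Tr.n t398 t399)) (Tr.n (Tr.n t400 t401) (Tr.n t402 t403))) (Tr.n (Tr.n (Tr.n t404 t405) (Tr.n t406 t407)) (Tr.n (Tr.n t408 t409) (Tr.n t410 t411)))) (Tr.n (Tr.n (Tr.n (Tr.n t412 t413) (Tr.n t414 t415)) (Tr.n (Tr.n t416 t417) (Tr.n t418 t419))) (Tr.n (Tr.n (Tr.n t420 t421) (Tr.n t422 t423)) (Tr.n (Tr.n t424 t425) (Tr.n t426 t427)))))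
noncomputable def u461 : Tr := (Tr.n (Tr.n (Tr.n (Tr.n (Tr.n t429 t430) (Tr.n t431 t432)) (Tr.n (Tr.n t433 t434) (Tr.n t435 t436))) (Tr.n (Tr.n (Tr.n t437 t438) (Tr.n t439 t440)) (Tr.n (Tr.n t441 t442) (Tr.n t443 t444)))) (Tr.n (Tr.n (Tr.n (Tr.n t445 t446) (Tr.n t447 t448)) (Tr.n (Tr.n t449 t450) (Tr.n t451 t452))) (Tr.n (Tr.n (Tr.n t453 t454) (Tr.n t455 t456)) (Tr.n (Tr.n t457 t458) (Tr.n t459 t460)))))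
noncomputable def tab8 : Tr := (Tr.n u428 u461)
noncomputable def u494 : Tr := (Tr.n (Tr.n (Tr.n (Tr.n (Tr.n t462 t463) (Tr.n t464 t465)) (Tr.n (Tr.n t466 t467) (Tr.n t468 t469))) (Tr.n (Tr.n (Tr.n t470 t471) (Tr.n t472 t473)) (Tr.n (Tr.n t474 t475) (Tr.n t476 t477)))) (Tr.n (Tr.n (Tr.n (Tr.n t478 t479) (Tr.n t480 t481)) (Tr.n (Tr.n t482 t483) (Tr.n t484 t485))) (Tr.n (Tr.n (Tr.n t486 t487) (Tr.n t488 t489)) (Tr.n (Tr.n t490 t491) (Tr.n t492 t493)))))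
noncomputable def u527 : Tr := (Tr.n (Tr.n (Tr.n (Tr.n (Tr.n t495 t496) (Tr.n t497 t498)) (Tr.n (Tr.n t499 t500) (Tr.n t501 t502))) (Tr.n (Tr.n (Tr.n t503 t504) (Tr.n t505 t506)) (Tr.n (Tr.n t507 t508) (Tr.n t509 t510)))) (Tr.n (Tr.n (Tr.n (Tr.n t511 t512) (Tr.n t513 t514)) (Tr.n (Tr.n t515 t516) (Tr.n t517 t518))) (Tr.n (Tr.n (Tr.n t519 t520) (Tr.n t521 t522)) (Tr.n (Tr.n t523 t524) (Tr.n t525 t526)))))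
noncomputable def tab9 : Tr := (Tr.n u494 u527)
noncomputable def u560 : Tr := (Tr.n (Tr.n (Tr.n (Tr.n (Tr.n t528 t529) (Tr.n t530 t531)) (Tr.n (Tr.n t532 t533) (Tr.n t534 t535))) (Tr.n (Tr.n (Tr.n t536 t537) (Tr.n t538 t539)) (Tr.n (Tr.n t540 t541) (Tr.n t542 t543)))) (Tr.n (Tr.n (Tr.n (Tr.n t544 t545) (Tr.n t546 t547)) (Tr.n (Tr.n t548 t549) (Tr.n t550 t551))) (Tr.n (Tr.n (Tr.n t552 t553) (Tr.n t554 t555)) (Tr.n (Tr.n t556 t557) (Tr.n t558 t559)))))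
noncomputable def u593 : Tr := (Tr.n (Tr.n (Tr.n (Tr.n (Tr.n t561 t562) (Tr.n t563 t564)) (Tr.n (Tr.n t565 t566) (Tr.n t567 t568))) (Tr.n (Tr.n (Tr.n t569 t570) (Tr.n t571 t572)) (Tr.n (Tr.n t573 t574) (Tr.n t575 t576)))) (Tr.n (Tr.n (Tr.n (Tr.n t577 t578) (Tr.n t579 t580)) (Tr.n (Tr.n t581 t582) (Tr.n t583 t584))) (Tr.n (Tr.n (Tr.n t585 t586) (Tr.n t587 t588)) (Tr.n (Tr.n t589 t590) (Tr.n t591 t592)))))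
noncomputable def tab10 : Tr := (Tr.n u560 u593)
noncomputable def ty0 : TT := (TT.n (TT.n (TT.n (TT.n (TT.n (TT.l (Ty.rel1 (nat_lit 1)))
 (TT.l (Ty.srel [nat_lit 2, nat_lit 2, nat_lit 2, nat_lit 1, nat_lit 2, nat_lit 2, nat_lit 0, nat_lit 2, nat_lit 2, nat_lit 2, nat_lit 1, nat_lit 2, nat_lit 2, nat_lit 0, nat_lit 2, nat_lit 2, nat_lit 2, nat_lit 1, nat_lit 2, nat_lit 2])))
 (TT.l (Ty.rel5 (nat_lit 0) (nat_lit 2) (nat_lit 0) (nat_lit 0) (nat_lit 3))))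
 (TT.n (TT.n (TT.l (Ty.rel5 (nat_lit 2) (nat_lit 0) (nat_lit 0) (nat_lit 3) (nat_lit 0)))
 (TT.l (Ty.srel [nat_lit 2, nat_lit 2, nat_lit 2, nat_lit 0, nat_lit 2, nat_lit 0, nat_lit 2, nat_lit 2, nat_lit 2, nat_lit 0, nat_lit 2, nat_lit 0, nat_lit 2, nat_lit 2, nat_lit 2, nat_lit 0, nat_lit 2, nat_lit 0, nat_lit 2, nat_lit 2, nat_lit 2, nat_lit 0, nat_lit 2])))
 (TT.l (Ty.srel [nat_lit 2, nat_lit 1, nat_lit 3, nat_lit 0, nat_lit 2, nat_lit 1, nat_lit 3, nat_lit 0, nat_lit 2, nat_lit 1, nat_lit 3]))))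
 (TT.n (TT.n (TT.n (TT.l (Ty.dfn))
 (TT.l (Ty.relL (nat_lit 2) [nat_lit 2, nat_lit 2, nat_lit 0, nat_lit 2, nat_lit 0, nat_lit 2, nat_lit 2, nat_lit 2, nat_lit 0, nat_lit 2, nat_lit 0, nat_lit 2, nat_lit 2, nat_lit 2, nat_lit 0, nat_lit 2, nat_lit 0, nat_lit 2, nat_lit 2, nat_lit 2, nat_lit 0, nat_lit 2])))
 (TT.l (Ty.relL (nat_lit 2) [nat_lit 0, nat_lit 2, nat_lit 0, nat_lit 2, nat_lit 0, nat_lit 2, nat_lit 0, nat_lit 2, nat_lit 0, nat_lit 2, nat_lit 0, nat_lit 2, nat_lit 0, nat_lit 2])))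
 (TT.n (TT.l (Ty.relL (nat_lit 3) [nat_lit 1, nat_lit 2, nat_lit 0, nat_lit 3, nat_lit 1, nat_lit 2, nat_lit 0, nat_lit 3, nat_lit 1, nat_lit 2]))
 (TT.l (Ty.srel [nat_lit 3, nat_lit 1, nat_lit 2, nat_lit 0, nat_lit 3, nat_lit 1, nat_lit 2, nat_lit 0, nat_lit 3, nat_lit 1, nat_lit 2])))))
 (TT.n (TT.n (TT.n (TT.n (TT.l (Ty.ssub [nat_lit 0] []))
 (TT.l (Ty.rel5 (nat_lit 0) (nat_lit 3) (nat_lit 0) (nat_lit 0) (nat_lit 2))))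
 (TT.l (Ty.relL (nat_lit 2) [nat_lit 2, nat_lit 2, nat_lit 1, nat_lit 2, nat_lit 2, nat_lit 0, nat_lit 2, nat_lit 2, nat_lit 2, nat_lit 1, nat_lit 2, nat_lit 2, nat_lit 0, nat_lit 2, nat_lit 2, nat_lit 2, nat_lit 1, nat_lit 2, nat_lit 2])))
 (TT.n (TT.n (TT.l (Ty.relL (nat_lit 3) [nat_lit 3, nat_lit 3, nat_lit 1, nat_lit 3, nat_lit 3, nat_lit 0, nat_lit 3, nat_lit 3, nat_lit 3, nat_lit 1, nat_lit 3, nat_lit 3, nat_lit 0, nat_lit 3, nat_lit 3, nat_lit 3, nat_lit 1, nat_lit 3, nat_lit 3]))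
 (TT.l (Ty.skip)))
 (TT.l (Ty.srel [nat_lit 2, nat_lit 0, nat_lit 2, nat_lit 0, nat_lit 2, nat_lit 0, nat_lit 2, nat_lit 0, nat_lit 2, nat_lit 0, nat_lit 2, nat_lit 0, nat_lit 2, nat_lit 0, nat_lit 2]))))
 (TT.n (TT.n (TT.n (TT.l (Ty.rel5 (nat_lit 3) (nat_lit 0) (nat_lit 0) (nat_lit 2) (nat_lit 0)))
 (TT.l (Ty.srel [nat_lit 2, nat_lit 0, nat_lit 2, nat_lit 2, nat_lit 2, nat_lit 0, nat_lit 2, nat_lit 0, nat_lit 2, nat_lit 2, nat_lit 2, nat_lit 0, nat_lit 2, nat_lit 0, nat_lit 2, nat_lit 2, nat_lit 2, nat_lit 0, nat_lit 2, nat_lit 0, nat_lit 2, nat_lit 2, nat_lit 2])))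
 (TT.l (Ty.srel [nat_lit 3, nat_lit 3, nat_lit 3, nat_lit 1, nat_lit 3, nat_lit 3, nat_lit 0, nat_lit 3, nat_lit 3, nat_lit 3, nat_lit 1, nat_lit 3, nat_lit 3, nat_lit 0, nat_lit 3, nat_lit 3, nat_lit 3, nat_lit 1, nat_lit 3, nat_lit 3])))
 (TT.n (TT.l (Ty.relL (nat_lit 2) [nat_lit 1, nat_lit 3, nat_lit 0, nat_lit 2, nat_lit 1, nat_lit 3, nat_lit 0, nat_lit 2, nat_lit 1, nat_lit 3]))
 (TT.l (Ty.relL (nat_lit 2) [nat_lit 0, nat_lit 2, nat_lit 2, nat_lit 2, nat_lit 0, nat_lit 2, nat_lit 0, nat_lit 2, nat_lit 2, nat_lit 2, nat_lit 0, nat_lit 2, nat_lit 0, nat_lit 2, nat_lit 2, nat_lit 2, nat_lit 0, nat_lit 2, nat_lit 0, nat_lit 2, nat_lit 2, nat_lit 2]))))))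
noncomputable def ty1 : TT := (TT.n (TT.n (TT.n (TT.n (TT.n (TT.l (Ty.rel1 (nat_lit 0)))
 (TT.l (Ty.srel [nat_lit 3, nat_lit 1, nat_lit 3, nat_lit 3, nat_lit 3, nat_lit 1, nat_lit 3, nat_lit 1, nat_lit 3, nat_lit 3, nat_lit 3, nat_lit 1, nat_lit 3, nat_lit 1, nat_lit 3, nat_lit 3, nat_lit 3, nat_lit 1, nat_lit 3, nat_lit 1, nat_lit 3, nat_lit 3, nat_lit 3])))
 (TT.l (Ty.relL (nat_lit 3) [nat_lit 1, nat_lit 3, nat_lit 1, nat_lit 3, nat_lit 1, nat_lit 3, nat_lit 1, nat_lit 3, nat_lit 1, nat_lit 3, nat_lit 1, nat_lit 3, nat_lit 1, nat_lit 3])))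
 (TT.n (TT.n (TT.l (Ty.rel5 (nat_lit 1) (nat_lit 3) (nat_lit 1) (nat_lit 1) (nat_lit 2)))
 (TT.l (Ty.relL (nat_lit 3) [nat_lit 1, nat_lit 3, nat_lit 3, nat_lit 3, nat_lit 1, nat_lit 3, nat_lit 1, nat_lit 3, nat_lit 3, nat_lit 3, nat_lit 1, nat_lit 3, nat_lit 1, nat_lit 3, nat_lit 3, nat_lit 3, nat_lit 1, nat_lit 3, nat_lit 1, nat_lit 3, nat_lit 3, nat_lit 3])))
 (TT.l (Ty.srel [nat_lit 3, nat_lit 3, nat_lit 0, nat_lit 3, nat_lit 3, nat_lit 3, nat_lit 1, nat_lit 3, nat_lit 3, nat_lit 0, nat_lit 3, nat_lit 3, nat_lit 3, nat_lit 1, nat_lit 3, nat_lit 3, nat_lit 0, nat_lit 3, nat_lit 3, nat_lit 3]))))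
 (TT.n (TT.n (TT.n (TT.l (Ty.rel5 (nat_lit 3) (nat_lit 1) (nat_lit 1) (nat_lit 2) (nat_lit 1)))
 (TT.l (Ty.srel [nat_lit 3, nat_lit 1, nat_lit 1, nat_lit 2, nat_lit 1])))
 (TT.l (Ty.relL (nat_lit 3) [nat_lit 3, nat_lit 0, nat_lit 3, nat_lit 3, nat_lit 3, nat_lit 1, nat_lit 3, nat_lit 3, nat_lit 0, nat_lit 3, nat_lit 3, nat_lit 3, nat_lit 1, nat_lit 3, nat_lit 3, nat_lit 0, nat_lit 3, nat_lit 3, nat_lit 3])))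
 (TT.n (TT.l (Ty.relL (nat_lit 3) [nat_lit 0, nat_lit 2, nat_lit 1, nat_lit 3, nat_lit 0, nat_lit 2, nat_lit 1, nat_lit 3, nat_lit 0, nat_lit 2]))
 (TT.l (Ty.srel [nat_lit 3, nat_lit 1, nat_lit 3, nat_lit 1, nat_lit 3, nat_lit 1, nat_lit 3, nat_lit 1, nat_lit 3, nat_lit 1, nat_lit 3, nat_lit 1, nat_lit 3, nat_lit 1, nat_lit 3])))))
 (TT.n (TT.n (TT.n (TT.n (TT.l (Ty.dfn))
 (TT.l (Ty.srel [nat_lit 3, nat_lit 3, nat_lit 3, nat_lit 1, nat_lit 3, nat_lit 1, nat_lit 3, nat_lit 3, nat_lit 3, nat_lit 1, nat_lit 3, nat_lit 1, nat_lit 3, nat_lit 3, nat_lit 3, nat_lit 1, nat_lit 3, nat_lit 1, nat_lit 3, nat_lit 3, nat_lit 3, nat_lit 1, nat_lit 3])))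
 (TT.l (Ty.relL (nat_lit 2) [nat_lit 2, nat_lit 0, nat_lit 2, nat_lit 2, nat_lit 2, nat_lit 1, nat_lit 2, nat_lit 2, nat_lit 0, nat_lit 2, nat_lit 2, nat_lit 2, nat_lit 1, nat_lit 2, nat_lit 2, nat_lit 0, nat_lit 2, nat_lit 2, nat_lit 2])))
 (TT.n (TT.l (Ty.relL (nat_lit 3) [nat_lit 3, nat_lit 3, nat_lit 1, nat_lit 3, nat_lit 1, nat_lit 3, nat_lit 3, nat_lit 3, nat_lit 1, nat_lit 3, nat_lit 1, nat_lit 3, nat_lit 3, nat_lit 3, nat_lit 1, nat_lit 3, nat_lit 1, nat_lit 3, nat_lit 3, nat_lit 3, nat_lit 1, nat_lit 3]))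
 (TT.l (Ty.srel [nat_lit 3, nat_lit 0, nat_lit 2, nat_lit 1, nat_lit 3, nat_lit 0, nat_lit 2, nat_lit 1, nat_lit 3, nat_lit 0, nat_lit 2]))))
 (TT.n (TT.n (TT.n (TT.l (Ty.rel5 (nat_lit 2) (nat_lit 1) (nat_lit 1) (nat_lit 3) (nat_lit 1)))
 (TT.l (Ty.skip)))
 (TT.l (Ty.srel [nat_lit 2, nat_lit 0, nat_lit 3, nat_lit 1, nat_lit 2, nat_lit 0, nat_lit 3, nat_lit 1, nat_lit 2, nat_lit 0, nat_lit 3])))
 (TT.n (TT.l (Ty.relL (nat_lit 2) [nat_lit 0, nat_lit 3, nat_lit 1, nat_lit 2, nat_lit 0, nat_lit 3, nat_lit 1, nat_lit 2, nat_lit 0, nat_lit 3]))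
 (TT.l (Ty.srel [nat_lit 2, nat_lit 2, nat_lit 0, nat_lit 2, nat_lit 2, nat_lit 2, nat_lit 1, nat_lit 2, nat_lit 2, nat_lit 0, nat_lit 2, nat_lit 2, nat_lit 2, nat_lit 1, nat_lit 2, nat_lit 2, nat_lit 0, nat_lit 2, nat_lit 2, nat_lit 2]))))))
noncomputable def ty2 : TT := (TT.n (TT.n (TT.n (TT.n (TT.n (TT.l (Ty.ssub [] []))
 (TT.l (Ty.relL (nat_lit 2) [nat_lit 1, nat_lit 2, nat_lit 2, nat_lit 0, nat_lit 2, nat_lit 2, nat_lit 2, nat_lit 1, nat_lit 2, nat_lit 2, nat_lit 0, nat_lit 2, nat_lit 2, nat_lit 2, nat_lit 1, nat_lit 2, nat_lit 2, nat_lit 0, nat_lit 2])))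
 (TT.n (TT.l (Ty.relL (nat_lit 0) [nat_lit 2, nat_lit 2, nat_lit 2, nat_lit 1, nat_lit 2, nat_lit 2, nat_lit 0, nat_lit 2, nat_lit 2, nat_lit 2, nat_lit 1, nat_lit 2, nat_lit 2, nat_lit 0, nat_lit 2, nat_lit 2, nat_lit 2, nat_lit 1, nat_lit 2]))
 (TT.l (Ty.srel [nat_lit 2, nat_lit 2, nat_lit 1, nat_lit 2, nat_lit 2, nat_lit 0, nat_lit 2, nat_lit 2, nat_lit 2, nat_lit 1, nat_lit 2, nat_lit 2, nat_lit 0, nat_lit 2, nat_lit 2, nat_lit 2, nat_lit 1, nat_lit 2, nat_lit 2, nat_lit 0]))))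
 (TT.n (TT.n (TT.l (Ty.relL (nat_lit 0) [nat_lit 2, nat_lit 0, nat_lit 2, nat_lit 0, nat_lit 2, nat_lit 0, nat_lit 2, nat_lit 0, nat_lit 2, nat_lit 0, nat_lit 2, nat_lit 0, nat_lit 2, nat_lit 0]))
 (TT.l (Ty.srel [nat_lit 0, nat_lit 2, nat_lit 2, nat_lit 2, nat_lit 1, nat_lit 2, nat_lit 2, nat_lit 0, nat_lit 2, nat_lit 2, nat_lit 2, nat_lit 1, nat_lit 2, nat_lit 2, nat_lit 0, nat_lit 2, nat_lit 2, nat_lit 2, nat_lit 1, nat_lit 2])))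
 (TT.n (TT.l (Ty.srel [nat_lit 0, nat_lit 3, nat_lit 1, nat_lit 2, nat_lit 0, nat_lit 3, nat_lit 1, nat_lit 2, nat_lit 0, nat_lit 3, nat_lit 1]))
 (TT.l (Ty.relL (nat_lit 2) [nat_lit 2, nat_lit 1, nat_lit 2, nat_lit 2, nat_lit 0, nat_lit 2, nat_lit 2, nat_lit 2, nat_lit 1, nat_lit 2, nat_lit 2, nat_lit 0, nat_lit 2, nat_lit 2, nat_lit 2, nat_lit 1, nat_lit 2, nat_lit 2, nat_lit 0])))))
 (TT.n (TT.n (TT.n (TT.l (Ty.dfn))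
 (TT.l (Ty.relL (nat_lit 1) [nat_lit 3, nat_lit 0, nat_lit 2, nat_lit 1, nat_lit 3, nat_lit 0, nat_lit 2, nat_lit 1, nat_lit 3, nat_lit 0])))
 (TT.n (TT.l (Ty.srel [nat_lit 2, nat_lit 2, nat_lit 2, nat_lit 2, nat_lit 2]))
 (TT.l (Ty.relL (nat_lit 2) [nat_lit 2, nat_lit 0, nat_lit 2, nat_lit 0, nat_lit 2, nat_lit 2, nat_lit 2, nat_lit 0, nat_lit 2, nat_lit 0, nat_lit 2, nat_lit 2, nat_lit 2, nat_lit 0, nat_lit 2, nat_lit 0, nat_lit 2, nat_lit 2, nat_lit 2, nat_lit 0, nat_lit 2, nat_lit 0]))))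
 (TT.n (TT.n (TT.l (Ty.rel5 (nat_lit 2) (nat_lit 2) (nat_lit 2) (nat_lit 2) (nat_lit 2)))
 (TT.l (Ty.srel [nat_lit 0, nat_lit 2, nat_lit 0, nat_lit 2, nat_lit 2, nat_lit 2, nat_lit 0, nat_lit 2, nat_lit 0, nat_lit 2, nat_lit 2, nat_lit 2, nat_lit 0, nat_lit 2, nat_lit 0, nat_lit 2, nat_lit 2, nat_lit 2, nat_lit 0, nat_lit 2, nat_lit 0, nat_lit 2, nat_lit 2])))
 (TT.n (TT.l (Ty.srel [nat_lit 0, nat_lit 2, nat_lit 2, nat_lit 2, nat_lit 0, nat_lit 2, nat_lit 0, nat_lit 2, nat_lit 2, nat_lit 2, nat_lit 0, nat_lit 2, nat_lit 0, nat_lit 2, nat_lit 2, nat_lit 2, nat_lit 0, nat_lit 2, nat_lit 0, nat_lit 2, nat_lit 2, nat_lit 2, nat_lit 0]))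
 (TT.l (Ty.skip))))))
 (TT.n (TT.n (TT.n (TT.n (TT.l (Ty.rel1 (nat_lit 3)))
 (TT.l (Ty.relL (nat_lit 0) [nat_lit 2, nat_lit 2, nat_lit 2, nat_lit 0, nat_lit 2, nat_lit 0, nat_lit 2, nat_lit 2, nat_lit 2, nat_lit 0, nat_lit 2, nat_lit 0, nat_lit 2, nat_lit 2, nat_lit 2, nat_lit 0, nat_lit 2, nat_lit 0, nat_lit 2, nat_lit 2, nat_lit 2, nat_lit 0])))
 (TT.n (TT.l (Ty.srel [nat_lit 3]))
 (TT.l (Ty.srel [nat_lit 1, nat_lit 3, nat_lit 0, nat_lit 2, nat_lit 1, nat_lit 3, nat_lit 0, nat_lit 2, nat_lit 1, nat_lit 3, nat_lit 0]))))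
 (TT.n (TT.n (TT.l (Ty.relL (nat_lit 0) [nat_lit 2, nat_lit 0, nat_lit 2, nat_lit 2, nat_lit 2, nat_lit 0, nat_lit 2, nat_lit 0, nat_lit 2, nat_lit 2, nat_lit 2, nat_lit 0, nat_lit 2, nat_lit 0, nat_lit 2, nat_lit 2, nat_lit 2, nat_lit 0, nat_lit 2, nat_lit 0, nat_lit 2, nat_lit 2]))
 (TT.l (Ty.srel [nat_lit 2, nat_lit 2, nat_lit 0, nat_lit 2, nat_lit 0, nat_lit 2, nat_lit 2, nat_lit 2, nat_lit 0, nat_lit 2, nat_lit 0, nat_lit 2, nat_lit 2, nat_lit 2, nat_lit 0, nat_lit 2, nat_lit 0, nat_lit 2, nat_lit 2, nat_lit 2, nat_lit 0, nat_lit 2, nat_lit 0])))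
 (TT.n (TT.l (Ty.srel [nat_lit 0, nat_lit 2, nat_lit 0, nat_lit 2, nat_lit 0, nat_lit 2, nat_lit 0, nat_lit 2, nat_lit 0, nat_lit 2, nat_lit 0, nat_lit 2, nat_lit 0, nat_lit 2, nat_lit 0]))
 (TT.l (Ty.srel [nat_lit 2, nat_lit 0, nat_lit 2, nat_lit 2, nat_lit 2, nat_lit 1, nat_lit 2, nat_lit 2, nat_lit 0, nat_lit 2, nat_lit 2, nat_lit 2, nat_lit 1, nat_lit 2, nat_lit 2, nat_lit 0, nat_lit 2, nat_lit 2, nat_lit 2, nat_lit 1])))))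
 (TT.n (TT.n (TT.n (TT.l (Ty.relL (nat_lit 0) [nat_lit 3, nat_lit 1, nat_lit 2, nat_lit 0, nat_lit 3, nat_lit 1, nat_lit 2, nat_lit 0, nat_lit 3, nat_lit 1]))
 (TT.l (Ty.srel [nat_lit 1, nat_lit 2, nat_lit 2, nat_lit 0, nat_lit 2, nat_lit 2, nat_lit 2, nat_lit 1, nat_lit 2, nat_lit 2, nat_lit 0, nat_lit 2, nat_lit 2, nat_lit 2, nat_lit 1, nat_lit 2, nat_lit 2, nat_lit 0, nat_lit 2, nat_lit 2])))
 (TT.n (TT.l (Ty.relL (nat_lit 2) [nat_lit 0, nat_lit 2, nat_lit 0, nat_lit 2, nat_lit 2, nat_lit 2, nat_lit 0, nat_lit 2, nat_lit 0, nat_lit 2, nat_lit 2, nat_lit 2, nat_lit 0, nat_lit 2, nat_lit 0, nat_lit 2, nat_lit 2, nat_lit 2, nat_lit 0, nat_lit 2, nat_lit 0, nat_lit 2]))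
 (TT.l (Ty.srel [nat_lit 2, nat_lit 0, nat_lit 2, nat_lit 0, nat_lit 2, nat_lit 2, nat_lit 2, nat_lit 0, nat_lit 2, nat_lit 0, nat_lit 2, nat_lit 2, nat_lit 2, nat_lit 0, nat_lit 2, nat_lit 0, nat_lit 2, nat_lit 2, nat_lit 2, nat_lit 0, nat_lit 2, nat_lit 0, nat_lit 2]))))
 (TT.n (TT.n (TT.l (Ty.relL (nat_lit 1) [nat_lit 2, nat_lit 2, nat_lit 0, nat_lit 2, nat_lit 2, nat_lit 2, nat_lit 1, nat_lit 2, nat_lit 2, nat_lit 0, nat_lit 2, nat_lit 2, nat_lit 2, nat_lit 1, nat_lit 2, nat_lit 2, nat_lit 0, nat_lit 2, nat_lit 2]))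
 (TT.l (Ty.srel [nat_lit 2, nat_lit 1, nat_lit 2, nat_lit 2, nat_lit 0, nat_lit 2, nat_lit 2, nat_lit 2, nat_lit 1, nat_lit 2, nat_lit 2, nat_lit 0, nat_lit 2, nat_lit 2, nat_lit 2, nat_lit 1, nat_lit 2, nat_lit 2, nat_lit 0, nat_lit 2])))
 (TT.l (Ty.relL (nat_lit 2) [nat_lit 0, nat_lit 2, nat_lit 2, nat_lit 2, nat_lit 1, nat_lit 2, nat_lit 2, nat_lit 0, nat_lit 2, nat_lit 2, nat_lit 2, nat_lit 1, nat_lit 2, nat_lit 2, nat_lit 0, nat_lit 2, nat_lit 2, nat_lit 2, nat_lit 1]))))))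
noncomputable def ty3 : TT := (TT.n (TT.n (TT.n (TT.n (TT.n (TT.l (Ty.rel1 (nat_lit 2)))
 (TT.l (Ty.srel [nat_lit 1, nat_lit 3, nat_lit 3, nat_lit 0, nat_lit 3, nat_lit 3, nat_lit 3, nat_lit 1, nat_lit 3, nat_lit 3, nat_lit 0, nat_lit 3, nat_lit 3, nat_lit 3, nat_lit 1, nat_lit 3, nat_lit 3, nat_lit 0, nat_lit 3, nat_lit 3])))
 (TT.n (TT.l (Ty.relL (nat_lit 1) [nat_lit 3, nat_lit 1, nat_lit 3, nat_lit 3, nat_lit 3, nat_lit 1, nat_lit 3, nat_lit 1, nat_lit 3, nat_lit 3, nat_lit 3, nat_lit 1, nat_lit 3, nat_lit 1, nat_lit 3, nat_lit 3, nat_lit 3, nat_lit 1, nat_lit 3, nat_lit 1, nat_lit 3, nat_lit 3]))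
 (TT.l (Ty.relL (nat_lit 0) [nat_lit 2, nat_lit 1, nat_lit 3, nat_lit 0, nat_lit 2, nat_lit 1, nat_lit 3, nat_lit 0, nat_lit 2, nat_lit 1]))))
 (TT.n (TT.n (TT.l (Ty.relL (nat_lit 1) [nat_lit 3, nat_lit 1, nat_lit 3, nat_lit 1, nat_lit 3, nat_lit 1, nat_lit 3, nat_lit 1, nat_lit 3, nat_lit 1, nat_lit 3, nat_lit 1, nat_lit 3, nat_lit 1]))
 (TT.l (Ty.srel [nat_lit 1, nat_lit 3, nat_lit 3, nat_lit 3, nat_lit 1, nat_lit 3, nat_lit 1, nat_lit 3, nat_lit 3, nat_lit 3, nat_lit 1, nat_lit 3, nat_lit 1, nat_lit 3, nat_lit 3, nat_lit 3, nat_lit 1, nat_lit 3, nat_lit 1, nat_lit 3, nat_lit 3, nat_lit 3, nat_lit 1])))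
 (TT.n (TT.l (Ty.srel [nat_lit 3, nat_lit 3, nat_lit 3, nat_lit 3, nat_lit 3]))
 (TT.l (Ty.relL (nat_lit 3) [nat_lit 3, nat_lit 1, nat_lit 3, nat_lit 3, nat_lit 0, nat_lit 3, nat_lit 3, nat_lit 3, nat_lit 1, nat_lit 3, nat_lit 3, nat_lit 0, nat_lit 3, nat_lit 3, nat_lit 3, nat_lit 1, nat_lit 3, nat_lit 3, nat_lit 0])))))
 (TT.n (TT.n (TT.n (TT.l (Ty.rel5 (nat_lit 3) (nat_lit 3) (nat_lit 3) (nat_lit 3) (nat_lit 3)))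
 (TT.l (Ty.srel [nat_lit 1, nat_lit 3, nat_lit 1, nat_lit 3, nat_lit 1, nat_lit 3, nat_lit 1, nat_lit 3, nat_lit 1, nat_lit 3, nat_lit 1, nat_lit 3, nat_lit 1, nat_lit 3, nat_lit 1])))
 (TT.n (TT.l (Ty.relL (nat_lit 3) [nat_lit 1, nat_lit 3, nat_lit 1, nat_lit 3, nat_lit 3, nat_lit 3, nat_lit 1, nat_lit 3, nat_lit 1, nat_lit 3, nat_lit 3, nat_lit 3, nat_lit 1, nat_lit 3, nat_lit 1, nat_lit 3, nat_lit 3, nat_lit 3, nat_lit 1, nat_lit 3, nat_lit 1, nat_lit 3]))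
 (TT.l (Ty.srel [nat_lit 3, nat_lit 3, nat_lit 1, nat_lit 3, nat_lit 3, nat_lit 0, nat_lit 3, nat_lit 3, nat_lit 3, nat_lit 1, nat_lit 3, nat_lit 3, nat_lit 0, nat_lit 3, nat_lit 3, nat_lit 3, nat_lit 1, nat_lit 3, nat_lit 3, nat_lit 0]))))
 (TT.n (TT.n (TT.l (Ty.relL (nat_lit 1) [nat_lit 3, nat_lit 3, nat_lit 3, nat_lit 1, nat_lit 3, nat_lit 1, nat_lit 3, nat_lit 3, nat_lit 3, nat_lit 1, nat_lit 3, nat_lit 1, nat_lit 3, nat_lit 3, nat_lit 3, nat_lit 1, nat_lit 3, nat_lit 1, nat_lit 3, nat_lit 3, nat_lit 3, nat_lit 1]))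
 (TT.l (Ty.srel [nat_lit 3, nat_lit 1, nat_lit 3, nat_lit 3, nat_lit 0, nat_lit 3, nat_lit 3, nat_lit 3, nat_lit 1, nat_lit 3, nat_lit 3, nat_lit 0, nat_lit 3, nat_lit 3, nat_lit 3, nat_lit 1, nat_lit 3, nat_lit 3, nat_lit 0, nat_lit 3])))
 (TT.l (Ty.relL (nat_lit 3) [nat_lit 1, nat_lit 3, nat_lit 3, nat_lit 0, nat_lit 3, nat_lit 3, nat_lit 3, nat_lit 1, nat_lit 3, nat_lit 3, nat_lit 0, nat_lit 3, nat_lit 3, nat_lit 3, nat_lit 1, nat_lit 3, nat_lit 3, nat_lit 0, nat_lit 3])))))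
 (TT.n (TT.n (TT.n (TT.n (TT.l (Ty.dfn))
 (TT.l (Ty.relL (nat_lit 3) [nat_lit 3, nat_lit 1, nat_lit 3, nat_lit 1, nat_lit 3, nat_lit 3, nat_lit 3, nat_lit 1, nat_lit 3, nat_lit 1, nat_lit 3, nat_lit 3, nat_lit 3, nat_lit 1, nat_lit 3, nat_lit 1, nat_lit 3, nat_lit 3, nat_lit 3, nat_lit 1, nat_lit 3, nat_lit 1])))
 (TT.n (TT.l (Ty.relL (nat_lit 3) [nat_lit 0, nat_lit 3, nat_lit 3, nat_lit 3, nat_lit 1, nat_lit 3, nat_lit 3, nat_lit 0, nat_lit 3, nat_lit 3, nat_lit 3, nat_lit 1, nat_lit 3, nat_lit 3, nat_lit 0, nat_lit 3, nat_lit 3, nat_lit 3, nat_lit 1]))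
 (TT.l (Ty.srel [nat_lit 0, nat_lit 2, nat_lit 1, nat_lit 3, nat_lit 0, nat_lit 2, nat_lit 1, nat_lit 3, nat_lit 0, nat_lit 2, nat_lit 1]))))
 (TT.n (TT.n (TT.l (Ty.relL (nat_lit 0) [nat_lit 3, nat_lit 3, nat_lit 3, nat_lit 1, nat_lit 3, nat_lit 3, nat_lit 0, nat_lit 3, nat_lit 3, nat_lit 3, nat_lit 1, nat_lit 3, nat_lit 3, nat_lit 0, nat_lit 3, nat_lit 3, nat_lit 3, nat_lit 1, nat_lit 3]))
 (TT.l (Ty.srel [nat_lit 3, nat_lit 0, nat_lit 3, nat_lit 3, nat_lit 3, nat_lit 1, nat_lit 3, nat_lit 3, nat_lit 0, nat_lit 3, nat_lit 3, nat_lit 3, nat_lit 1, nat_lit 3, nat_lit 3, nat_lit 0, nat_lit 3, nat_lit 3, nat_lit 3, nat_lit 1])))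
 (TT.n (TT.l (Ty.srel [nat_lit 1, nat_lit 2, nat_lit 0, nat_lit 3, nat_lit 1, nat_lit 2, nat_lit 0, nat_lit 3, nat_lit 1, nat_lit 2, nat_lit 0]))
 (TT.l (Ty.skip)))))
 (TT.n (TT.n (TT.n (TT.l (Ty.relL (nat_lit 1) [nat_lit 2, nat_lit 0, nat_lit 3, nat_lit 1, nat_lit 2, nat_lit 0, nat_lit 3, nat_lit 1, nat_lit 2, nat_lit 0]))
 (TT.l (Ty.srel [nat_lit 0, nat_lit 3, nat_lit 3, nat_lit 3, nat_lit 1, nat_lit 3, nat_lit 3, nat_lit 0, nat_lit 3, nat_lit 3, nat_lit 3, nat_lit 1, nat_lit 3, nat_lit 3, nat_lit 0, nat_lit 3, nat_lit 3, nat_lit 3, nat_lit 1, nat_lit 3])))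
 (TT.n (TT.l (Ty.relL (nat_lit 1) [nat_lit 3, nat_lit 3, nat_lit 0, nat_lit 3, nat_lit 3, nat_lit 3, nat_lit 1, nat_lit 3, nat_lit 3, nat_lit 0, nat_lit 3, nat_lit 3, nat_lit 3, nat_lit 1, nat_lit 3, nat_lit 3, nat_lit 0, nat_lit 3, nat_lit 3]))
 (TT.l (Ty.srel [nat_lit 3, nat_lit 3, nat_lit 1, nat_lit 3, nat_lit 1, nat_lit 3, nat_lit 3, nat_lit 3, nat_lit 1, nat_lit 3, nat_lit 1, nat_lit 3, nat_lit 3, nat_lit 3, nat_lit 1, nat_lit 3, nat_lit 1, nat_lit 3, nat_lit 3, nat_lit 3, nat_lit 1, nat_lit 3, nat_lit 1]))))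
 (TT.n (TT.n (TT.l (Ty.srel [nat_lit 2]))
 (TT.l (Ty.srel [nat_lit 3, nat_lit 1, nat_lit 3, nat_lit 1, nat_lit 3, nat_lit 3, nat_lit 3, nat_lit 1, nat_lit 3, nat_lit 1, nat_lit 3, nat_lit 3, nat_lit 3, nat_lit 1, nat_lit 3, nat_lit 1, nat_lit 3, nat_lit 3, nat_lit 3, nat_lit 1, nat_lit 3, nat_lit 1, nat_lit 3])))
 (TT.l (Ty.srel [nat_lit 1, nat_lit 3, nat_lit 1, nat_lit 3, nat_lit 3, nat_lit 3, nat_lit 1, nat_lit 3, nat_lit 1, nat_lit 3, nat_lit 3, nat_lit 3, nat_lit 1, nat_lit 3, nat_lit 1, nat_lit 3, nat_lit 3, nat_lit 3, nat_lit 1, nat_lit 3, nat_lit 1, nat_lit 3, nat_lit 3]))))))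
noncomputable def ty4 : TT := (TT.n (TT.n (TT.n (TT.n (TT.n (TT.n (TT.n (TT.l (Ty.skip))
 (TT.l (Ty.srel [nat_lit 2, nat_lit 0, nat_lit 2, nat_lit 2, nat_lit 2, nat_lit 1, nat_lit 2, nat_lit 2, nat_lit 0, nat_lit 2, nat_lit 2, nat_lit 2, nat_lit 1, nat_lit 2, nat_lit 2, nat_lit 0, nat_lit 2, nat_lit 2, nat_lit 2, nat_lit 1, nat_lit 2])))
 (TT.l (Ty.srel [nat_lit 0, nat_lit 2, nat_lit 2, nat_lit 2, nat_lit 0, nat_lit 2, nat_lit 0, nat_lit 2, nat_lit 2, nat_lit 2, nat_lit 0, nat_lit 2, nat_lit 0, nat_lit 2, nat_lit 2, nat_lit 2, nat_lit 0, nat_lit 2, nat_lit 0, nat_lit 2, nat_lit 2, nat_lit 2, nat_lit 0, nat_lit 2])))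
 (TT.n (TT.l (Ty.srel [nat_lit 0, nat_lit 2, nat_lit 2, nat_lit 2, nat_lit 1, nat_lit 2, nat_lit 2, nat_lit 0, nat_lit 2, nat_lit 2, nat_lit 2, nat_lit 1, nat_lit 2, nat_lit 2, nat_lit 0, nat_lit 2, nat_lit 2, nat_lit 2, nat_lit 1, nat_lit 2, nat_lit 2]))
 (TT.l (Ty.srel [nat_lit 2, nat_lit 1, nat_lit 2, nat_lit 2, nat_lit 0, nat_lit 2, nat_lit 2, nat_lit 2, nat_lit 1, nat_lit 2, nat_lit 2, nat_lit 0, nat_lit 2, nat_lit 2, nat_lit 2, nat_lit 1, nat_lit 2, nat_lit 2, nat_lit 0, nat_lit 2, nat_lit 2]))))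
 (TT.n (TT.n (TT.n (TT.l (Ty.relL (nat_lit 3) [nat_lit 3, nat_lit 3, nat_lit 1, nat_lit 3, nat_lit 3, nat_lit 0, nat_lit 3, nat_lit 3, nat_lit 3, nat_lit 1, nat_lit 3, nat_lit 3, nat_lit 0, nat_lit 3, nat_lit 3, nat_lit 3, nat_lit 1, nat_lit 3, nat_lit 3, nat_lit 0]))
 (TT.l (Ty.srel [nat_lit 1, nat_lit 3, nat_lit 0, nat_lit 2, nat_lit 1, nat_lit 3, nat_lit 0, nat_lit 2, nat_lit 1, nat_lit 3, nat_lit 0, nat_lit 2])))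
 (TT.l (Ty.srel [nat_lit 3, nat_lit 0, nat_lit 3, nat_lit 3, nat_lit 3, nat_lit 1, nat_lit 3, nat_lit 3, nat_lit 0, nat_lit 3, nat_lit 3, nat_lit 3, nat_lit 1, nat_lit 3, nat_lit 3, nat_lit 0, nat_lit 3, nat_lit 3, nat_lit 3, nat_lit 1, nat_lit 3])))
 (TT.n (TT.l (Ty.relL (nat_lit 2) [nat_lit 2, nat_lit 2, nat_lit 0, nat_lit 2, nat_lit 0, nat_lit 2, nat_lit 2, nat_lit 2, nat_lit 0, nat_lit 2, nat_lit 0, nat_lit 2, nat_lit 2, nat_lit 2, nat_lit 0, nat_lit 2, nat_lit 0, nat_lit 2, nat_lit 2, nat_lit 2, nat_lit 0, nat_lit 2, nat_lit 0]))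
 (TT.l (Ty.relL (nat_lit 3) [nat_lit 1, nat_lit 3, nat_lit 3, nat_lit 0, nat_lit 3, nat_lit 3, nat_lit 3, nat_lit 1, nat_lit 3, nat_lit 3, nat_lit 0, nat_lit 3, nat_lit 3, nat_lit 3, nat_lit 1, nat_lit 3, nat_lit 3, nat_lit 0, nat_lit 3, nat_lit 3])))))
 (TT.n (TT.n (TT.n (TT.n (TT.l (Ty.relL (nat_lit 2) [nat_lit 2, nat_lit 2, nat_lit 1, nat_lit 2, nat_lit 2, nat_lit 0, nat_lit 2, nat_lit 2, nat_lit 2, nat_lit 1, nat_lit 2, nat_lit 2, nat_lit 0, nat_lit 2, nat_lit 2, nat_lit 2, nat_lit 1, nat_lit 2, nat_lit 2, nat_lit 0]))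
 (TT.l (Ty.srel [nat_lit 1, nat_lit 3, nat_lit 3, nat_lit 3, nat_lit 1, nat_lit 3, nat_lit 1, nat_lit 3, nat_lit 3, nat_lit 3, nat_lit 1, nat_lit 3, nat_lit 1, nat_lit 3, nat_lit 3, nat_lit 3, nat_lit 1, nat_lit 3, nat_lit 1, nat_lit 3, nat_lit 3, nat_lit 3, nat_lit 1, nat_lit 3])))
 (TT.l (Ty.relL (nat_lit 0) [nat_lit 2, nat_lit 0, nat_lit 2, nat_lit 0, nat_lit 2, nat_lit 0, nat_lit 2, nat_lit 0, nat_lit 2, nat_lit 0, nat_lit 2, nat_lit 0, nat_lit 2, nat_lit 0, nat_lit 2])))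
 (TT.n (TT.l (Ty.srel [nat_lit 2, nat_lit 2, nat_lit 2, nat_lit 1, nat_lit 2, nat_lit 2, nat_lit 0, nat_lit 2, nat_lit 2, nat_lit 2, nat_lit 1, nat_lit 2, nat_lit 2, nat_lit 0, nat_lit 2, nat_lit 2, nat_lit 2, nat_lit 1, nat_lit 2, nat_lit 2, nat_lit 0]))
 (TT.l (Ty.srel [nat_lit 2, nat_lit 0, nat_lit 2, nat_lit 0, nat_lit 2, nat_lit 0, nat_lit 2, nat_lit 0, nat_lit 2, nat_lit 0, nat_lit 2, nat_lit 0, nat_lit 2, nat_lit 0, nat_lit 2, nat_lit 0]))))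
 (TT.n (TT.n (TT.n (TT.l (Ty.relL (nat_lit 0) [nat_lit 2, nat_lit 0, nat_lit 2, nat_lit 2, nat_lit 2, nat_lit 0, nat_lit 2, nat_lit 0, nat_lit 2, nat_lit 2, nat_lit 2, nat_lit 0, nat_lit 2, nat_lit 0, nat_lit 2, nat_lit 2, nat_lit 2, nat_lit 0, nat_lit 2, nat_lit 0, nat_lit 2, nat_lit 2, nat_lit 2]))
 (TT.l (Ty.relL (nat_lit 2) [nat_lit 0, nat_lit 3, nat_lit 1, nat_lit 2, nat_lit 0, nat_lit 3, nat_lit 1, nat_lit 2, nat_lit 0, nat_lit 3, nat_lit 1])))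
 (TT.l (Ty.relL (nat_lit 2) [nat_lit 0, nat_lit 2, nat_lit 2, nat_lit 2, nat_lit 0, nat_lit 2, nat_lit 0, nat_lit 2, nat_lit 2, nat_lit 2, nat_lit 0, nat_lit 2, nat_lit 0, nat_lit 2, nat_lit 2, nat_lit 2, nat_lit 0, nat_lit 2, nat_lit 0, nat_lit 2, nat_lit 2, nat_lit 2, nat_lit 0])))
 (TT.n (TT.l (Ty.srel [nat_lit 3, nat_lit 3, nat_lit 3, nat_lit 1, nat_lit 3, nat_lit 3, nat_lit 0, nat_lit 3, nat_lit 3, nat_lit 3, nat_lit 1, nat_lit 3, nat_lit 3, nat_lit 0, nat_lit 3, nat_lit 3, nat_lit 3, nat_lit 1, nat_lit 3, nat_lit 3, nat_lit 0]))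
 (TT.l (Ty.srel [nat_lit 3, nat_lit 3, nat_lit 3, nat_lit 3, nat_lit 3, nat_lit 3]))))))
 (TT.n (TT.n (TT.n (TT.n (TT.n (TT.l (Ty.relL (nat_lit 3) [nat_lit 1, nat_lit 2, nat_lit 0, nat_lit 3, nat_lit 1, nat_lit 2, nat_lit 0, nat_lit 3, nat_lit 1, nat_lit 2, nat_lit 0]))
 (TT.l (Ty.srel [nat_lit 1, nat_lit 3, nat_lit 3, nat_lit 0, nat_lit 3, nat_lit 3, nat_lit 3, nat_lit 1, nat_lit 3, nat_lit 3, nat_lit 0, nat_lit 3, nat_lit 3, nat_lit 3, nat_lit 1, nat_lit 3, nat_lit 3, nat_lit 0, nat_lit 3, nat_lit 3, nat_lit 3])))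
 (TT.l (Ty.relL (nat_lit 0) [nat_lit 2, nat_lit 2, nat_lit 2, nat_lit 0, nat_lit 2, nat_lit 0, nat_lit 2, nat_lit 2, nat_lit 2, nat_lit 0, nat_lit 2, nat_lit 0, nat_lit 2, nat_lit 2, nat_lit 2, nat_lit 0, nat_lit 2, nat_lit 0, nat_lit 2, nat_lit 2, nat_lit 2, nat_lit 0, nat_lit 2])))
 (TT.n (TT.l (Ty.relL (nat_lit 3) [nat_lit 0, nat_lit 3, nat_lit 3, nat_lit 3, nat_lit 1, nat_lit 3, nat_lit 3, nat_lit 0, nat_lit 3, nat_lit 3, nat_lit 3, nat_lit 1, nat_lit 3, nat_lit 3, nat_lit 0, nat_lit 3, nat_lit 3, nat_lit 3, nat_lit 1, nat_lit 3]))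
 (TT.l (Ty.relL (nat_lit 3) [nat_lit 1, nat_lit 3, nat_lit 1, nat_lit 3, nat_lit 3, nat_lit 3, nat_lit 1, nat_lit 3, nat_lit 1, nat_lit 3, nat_lit 3, nat_lit 3, nat_lit 1, nat_lit 3, nat_lit 1, nat_lit 3, nat_lit 3, nat_lit 3, nat_lit 1, nat_lit 3, nat_lit 1, nat_lit 3, nat_lit 3]))))
 (TT.n (TT.n (TT.n (TT.l (Ty.relL (nat_lit 3) [nat_lit 1, nat_lit 3, nat_lit 3, nat_lit 3, nat_lit 1, nat_lit 3, nat_lit 1, nat_lit 3, nat_lit 3, nat_lit 3, nat_lit 1, nat_lit 3, nat_lit 1, nat_lit 3, nat_lit 3, nat_lit 3, nat_lit 1, nat_lit 3, nat_lit 1, nat_lit 3, nat_lit 3, nat_lit 3, nat_lit 1]))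
 (TT.l (Ty.relL (nat_lit 0) [nat_lit 3, nat_lit 3, nat_lit 3, nat_lit 1, nat_lit 3, nat_lit 3, nat_lit 0, nat_lit 3, nat_lit 3, nat_lit 3, nat_lit 1, nat_lit 3, nat_lit 3, nat_lit 0, nat_lit 3, nat_lit 3, nat_lit 3, nat_lit 1, nat_lit 3, nat_lit 3])))
 (TT.l (Ty.srel [nat_lit 0, nat_lit 3, nat_lit 3, nat_lit 3, nat_lit 1, nat_lit 3, nat_lit 3, nat_lit 0, nat_lit 3, nat_lit 3, nat_lit 3, nat_lit 1, nat_lit 3, nat_lit 3, nat_lit 0, nat_lit 3, nat_lit 3, nat_lit 3, nat_lit 1, nat_lit 3, nat_lit 3])))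
 (TT.n (TT.l (Ty.srel [nat_lit 3, nat_lit 3, nat_lit 3, nat_lit 1, nat_lit 3, nat_lit 1, nat_lit 3, nat_lit 3, nat_lit 3, nat_lit 1, nat_lit 3, nat_lit 1, nat_lit 3, nat_lit 3, nat_lit 3, nat_lit 1, nat_lit 3, nat_lit 1, nat_lit 3, nat_lit 3, nat_lit 3, nat_lit 1, nat_lit 3, nat_lit 1]))
 (TT.l (Ty.srel [nat_lit 1, nat_lit 3, nat_lit 1, nat_lit 3, nat_lit 3, nat_lit 3, nat_lit 1, nat_lit 3, nat_lit 1, nat_lit 3, nat_lit 3, nat_lit 3, nat_lit 1, nat_lit 3, nat_lit 1, nat_lit 3, nat_lit 3, nat_lit 3, nat_lit 1, nat_lit 3, nat_lit 1, nat_lit 3, nat_lit 3, nat_lit 3])))))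
 (TT.n (TT.n (TT.n (TT.n (TT.l (Ty.relL (nat_lit 3) [nat_lit 0, nat_lit 2, nat_lit 1, nat_lit 3, nat_lit 0, nat_lit 2, nat_lit 1, nat_lit 3, nat_lit 0, nat_lit 2, nat_lit 1]))
 (TT.l (Ty.relL (nat_lit 1) [nat_lit 3, nat_lit 1, nat_lit 3, nat_lit 3, nat_lit 3, nat_lit 1, nat_lit 3, nat_lit 1, nat_lit 3, nat_lit 3, nat_lit 3, nat_lit 1, nat_lit 3, nat_lit 1, nat_lit 3, nat_lit 3, nat_lit 3, nat_lit 1, nat_lit 3, nat_lit 1, nat_lit 3, nat_lit 3, nat_lit 3])))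
 (TT.l (Ty.srel [nat_lit 2, nat_lit 2, nat_lit 0, nat_lit 2, nat_lit 2, nat_lit 2, nat_lit 1, nat_lit 2, nat_lit 2, nat_lit 0, nat_lit 2, nat_lit 2, nat_lit 2, nat_lit 1, nat_lit 2, nat_lit 2, nat_lit 0, nat_lit 2, nat_lit 2, nat_lit 2, nat_lit 1])))
 (TT.n (TT.l (Ty.srel [nat_lit 3, nat_lit 3, nat_lit 0, nat_lit 3, nat_lit 3, nat_lit 3, nat_lit 1, nat_lit 3, nat_lit 3, nat_lit 0, nat_lit 3, nat_lit 3, nat_lit 3, nat_lit 1, nat_lit 3, nat_lit 3, nat_lit 0, nat_lit 3, nat_lit 3, nat_lit 3, nat_lit 1]))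
 (TT.l (Ty.srel [nat_lit 2, nat_lit 0, nat_lit 2, nat_lit 2, nat_lit 2, nat_lit 0, nat_lit 2, nat_lit 0, nat_lit 2, nat_lit 2, nat_lit 2, nat_lit 0, nat_lit 2, nat_lit 0, nat_lit 2, nat_lit 2, nat_lit 2, nat_lit 0, nat_lit 2, nat_lit 0, nat_lit 2, nat_lit 2, nat_lit 2, nat_lit 0]))))
 (TT.n (TT.n (TT.n (TT.l (Ty.relL (nat_lit 0) [nat_lit 2, nat_lit 2, nat_lit 2, nat_lit 1, nat_lit 2, nat_lit 2, nat_lit 0, nat_lit 2, nat_lit 2, nat_lit 2, nat_lit 1, nat_lit 2, nat_lit 2, nat_lit 0, nat_lit 2, nat_lit 2, nat_lit 2, nat_lit 1, nat_lit 2, nat_lit 2]))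
 (TT.l (Ty.relL (nat_lit 1) [nat_lit 3, nat_lit 0, nat_lit 2, nat_lit 1, nat_lit 3, nat_lit 0, nat_lit 2, nat_lit 1, nat_lit 3, nat_lit 0, nat_lit 2])))
 (TT.l (Ty.srel [nat_lit 3, nat_lit 1, nat_lit 3, nat_lit 1, nat_lit 3, nat_lit 3, nat_lit 3, nat_lit 1, nat_lit 3, nat_lit 1, nat_lit 3, nat_lit 3, nat_lit 3, nat_lit 1, nat_lit 3, nat_lit 1, nat_lit 3, nat_lit 3, nat_lit 3, nat_lit 1, nat_lit 3, nat_lit 1, nat_lit 3, nat_lit 3])))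
 (TT.n (TT.l (Ty.srel [nat_lit 2, nat_lit 2, nat_lit 2, nat_lit 0, nat_lit 2, nat_lit 0, nat_lit 2, nat_lit 2, nat_lit 2, nat_lit 0, nat_lit 2, nat_lit 0, nat_lit 2, nat_lit 2, nat_lit 2, nat_lit 0, nat_lit 2, nat_lit 0, nat_lit 2, nat_lit 2, nat_lit 2, nat_lit 0, nat_lit 2, nat_lit 0]))
 (TT.l (Ty.relL (nat_lit 1) [nat_lit 2, nat_lit 2, nat_lit 0, nat_lit 2, nat_lit 2, nat_lit 2, nat_lit 1, nat_lit 2, nat_lit 2, nat_lit 0, nat_lit 2, nat_lit 2, nat_lit 2, nat_lit 1, nat_lit 2, nat_lit 2, nat_lit 0, nat_lit 2, nat_lit 2, nat_lit 2])))))))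
 (TT.n (TT.n (TT.n (TT.n (TT.n (TT.n (TT.l (Ty.relL (nat_lit 2) [nat_lit 2, nat_lit 2, nat_lit 2, nat_lit 2, nat_lit 2]))
 (TT.l (Ty.srel [nat_lit 2, nat_lit 2, nat_lit 1, nat_lit 2, nat_lit 2, nat_lit 0, nat_lit 2, nat_lit 2, nat_lit 2, nat_lit 1, nat_lit 2, nat_lit 2, nat_lit 0, nat_lit 2, nat_lit 2, nat_lit 2, nat_lit 1, nat_lit 2, nat_lit 2, nat_lit 0, nat_lit 2])))
 (TT.l (Ty.relL (nat_lit 3) [nat_lit 3, nat_lit 1, nat_lit 3, nat_lit 3, nat_lit 0, nat_lit 3, nat_lit 3, nat_lit 3, nat_lit 1, nat_lit 3, nat_lit 3, nat_lit 0, nat_lit 3, nat_lit 3, nat_lit 3, nat_lit 1, nat_lit 3, nat_lit 3, nat_lit 0, nat_lit 3])))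
 (TT.n (TT.l (Ty.srel [nat_lit 0, nat_lit 2, nat_lit 0, nat_lit 2, nat_lit 0, nat_lit 2, nat_lit 0, nat_lit 2, nat_lit 0, nat_lit 2, nat_lit 0, nat_lit 2, nat_lit 0, nat_lit 2, nat_lit 0, nat_lit 2]))
 (TT.l (Ty.srel [nat_lit 2, nat_lit 2, nat_lit 2, nat_lit 2, nat_lit 2, nat_lit 2]))))
 (TT.n (TT.n (TT.n (TT.l (Ty.relL (nat_lit 2) [nat_lit 2, nat_lit 0, nat_lit 2, nat_lit 2, nat_lit 2, nat_lit 1, nat_lit 2, nat_lit 2, nat_lit 0, nat_lit 2, nat_lit 2, nat_lit 2, nat_lit 1, nat_lit 2, nat_lit 2, nat_lit 0, nat_lit 2, nat_lit 2, nat_lit 2, nat_lit 1]))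
 (TT.l (Ty.relL (nat_lit 0) [nat_lit 2, nat_lit 1, nat_lit 3, nat_lit 0, nat_lit 2, nat_lit 1, nat_lit 3, nat_lit 0, nat_lit 2, nat_lit 1, nat_lit 3])))
 (TT.l (Ty.srel [nat_lit 0, nat_lit 3, nat_lit 1, nat_lit 2, nat_lit 0, nat_lit 3, nat_lit 1, nat_lit 2, nat_lit 0, nat_lit 3, nat_lit 1, nat_lit 2])))
 (TT.n (TT.l (Ty.relL (nat_lit 1) [nat_lit 2, nat_lit 0, nat_lit 3, nat_lit 1, nat_lit 2, nat_lit 0, nat_lit 3, nat_lit 1, nat_lit 2, nat_lit 0, nat_lit 3]))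
 (TT.l (Ty.srel [nat_lit 0, nat_lit 2, nat_lit 0, nat_lit 2, nat_lit 2, nat_lit 2, nat_lit 0, nat_lit 2, nat_lit 0, nat_lit 2, nat_lit 2, nat_lit 2, nat_lit 0, nat_lit 2, nat_lit 0, nat_lit 2, nat_lit 2, nat_lit 2, nat_lit 0, nat_lit 2, nat_lit 0, nat_lit 2, nat_lit 2, nat_lit 2])))))
 (TT.n (TT.n (TT.n (TT.n (TT.l (Ty.relL (nat_lit 3) [nat_lit 1, nat_lit 3, nat_lit 1, nat_lit 3, nat_lit 1, nat_lit 3, nat_lit 1, nat_lit 3, nat_lit 1, nat_lit 3, nat_lit 1, nat_lit 3, nat_lit 1, nat_lit 3, nat_lit 1]))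
 (TT.l (Ty.srel [nat_lit 1, nat_lit 2, nat_lit 2, nat_lit 0, nat_lit 2, nat_lit 2, nat_lit 2, nat_lit 1, nat_lit 2, nat_lit 2, nat_lit 0, nat_lit 2, nat_lit 2, nat_lit 2, nat_lit 1, nat_lit 2, nat_lit 2, nat_lit 0, nat_lit 2, nat_lit 2, nat_lit 2])))
 (TT.l (Ty.relL (nat_lit 3) [nat_lit 3, nat_lit 3, nat_lit 3, nat_lit 3, nat_lit 3])))
 (TT.n (TT.l (Ty.relL (nat_lit 2) [nat_lit 1, nat_lit 2, nat_lit 2, nat_lit 0, nat_lit 2, nat_lit 2, nat_lit 2, nat_lit 1, nat_lit 2, nat_lit 2, nat_lit 0, nat_lit 2, nat_lit 2, nat_lit 2, nat_lit 1, nat_lit 2, nat_lit 2, nat_lit 0, nat_lit 2, nat_lit 2]))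
 (TT.l (Ty.relL (nat_lit 0) [nat_lit 3, nat_lit 1, nat_lit 2, nat_lit 0, nat_lit 3, nat_lit 1, nat_lit 2, nat_lit 0, nat_lit 3, nat_lit 1, nat_lit 2]))))
 (TT.n (TT.n (TT.n (TT.l (Ty.relL (nat_lit 2) [nat_lit 1, nat_lit 3, nat_lit 0, nat_lit 2, nat_lit 1, nat_lit 3, nat_lit 0, nat_lit 2, nat_lit 1, nat_lit 3, nat_lit 0]))
 (TT.l (Ty.srel [nat_lit 0, nat_lit 2, nat_lit 1, nat_lit 3, nat_lit 0, nat_lit 2, nat_lit 1, nat_lit 3, nat_lit 0, nat_lit 2, nat_lit 1, nat_lit 3])))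
 (TT.l (Ty.relL (nat_lit 1) [nat_lit 3, nat_lit 3, nat_lit 3, nat_lit 1, nat_lit 3, nat_lit 1, nat_lit 3, nat_lit 3, nat_lit 3, nat_lit 1, nat_lit 3, nat_lit 1, nat_lit 3, nat_lit 3, nat_lit 3, nat_lit 1, nat_lit 3, nat_lit 1, nat_lit 3, nat_lit 3, nat_lit 3, nat_lit 1, nat_lit 3])))
 (TT.n (TT.l (Ty.relL (nat_lit 2) [nat_lit 2, nat_lit 1, nat_lit 2, nat_lit 2, nat_lit 0, nat_lit 2, nat_lit 2, nat_lit 2, nat_lit 1, nat_lit 2, nat_lit 2, nat_lit 0, nat_lit 2, nat_lit 2, nat_lit 2, nat_lit 1, nat_lit 2, nat_lit 2, nat_lit 0, nat_lit 2]))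
 (TT.l (Ty.srel [nat_lit 3, nat_lit 1, nat_lit 3, nat_lit 3, nat_lit 3, nat_lit 1, nat_lit 3, nat_lit 1, nat_lit 3, nat_lit 3, nat_lit 3, nat_lit 1, nat_lit 3, nat_lit 1, nat_lit 3, nat_lit 3, nat_lit 3, nat_lit 1, nat_lit 3, nat_lit 1, nat_lit 3, nat_lit 3, nat_lit 3, nat_lit 1]))))))
 (TT.n (TT.n (TT.n (TT.n (TT.n (TT.l (Ty.relL (nat_lit 3) [nat_lit 3, nat_lit 0, nat_lit 3, nat_lit 3, nat_lit 3, nat_lit 1, nat_lit 3, nat_lit 3, nat_lit 0, nat_lit 3, nat_lit 3, nat_lit 3, nat_lit 1, nat_lit 3, nat_lit 3, nat_lit 0, nat_lit 3, nat_lit 3, nat_lit 3, nat_lit 1]))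
 (TT.l (Ty.srel [nat_lit 1, nat_lit 2, nat_lit 0, nat_lit 3, nat_lit 1, nat_lit 2, nat_lit 0, nat_lit 3, nat_lit 1, nat_lit 2, nat_lit 0, nat_lit 3])))
 (TT.l (Ty.srel [nat_lit 1, nat_lit 3, nat_lit 1, nat_lit 3, nat_lit 1, nat_lit 3, nat_lit 1, nat_lit 3, nat_lit 1, nat_lit 3, nat_lit 1, nat_lit 3, nat_lit 1, nat_lit 3, nat_lit 1, nat_lit 3])))
 (TT.n (TT.l (Ty.srel [nat_lit 3, nat_lit 3, nat_lit 1, nat_lit 3, nat_lit 3, nat_lit 0, nat_lit 3, nat_lit 3, nat_lit 3, nat_lit 1, nat_lit 3, nat_lit 3, nat_lit 0, nat_lit 3, nat_lit 3, nat_lit 3, nat_lit 1, nat_lit 3, nat_lit 3, nat_lit 0, nat_lit 3]))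
 (TT.l (Ty.srel [nat_lit 3, nat_lit 1, nat_lit 3, nat_lit 1, nat_lit 3, nat_lit 1, nat_lit 3, nat_lit 1, nat_lit 3, nat_lit 1, nat_lit 3, nat_lit 1, nat_lit 3, nat_lit 1, nat_lit 3, nat_lit 1]))))
 (TT.n (TT.n (TT.n (TT.l (Ty.relL (nat_lit 2) [nat_lit 0, nat_lit 2, nat_lit 2, nat_lit 2, nat_lit 1, nat_lit 2, nat_lit 2, nat_lit 0, nat_lit 2, nat_lit 2, nat_lit 2, nat_lit 1, nat_lit 2, nat_lit 2, nat_lit 0, nat_lit 2, nat_lit 2, nat_lit 2, nat_lit 1, nat_lit 2]))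
 (TT.l (Ty.relL (nat_lit 1) [nat_lit 3, nat_lit 3, nat_lit 0, nat_lit 3, nat_lit 3, nat_lit 3, nat_lit 1, nat_lit 3, nat_lit 3, nat_lit 0, nat_lit 3, nat_lit 3, nat_lit 3, nat_lit 1, nat_lit 3, nat_lit 3, nat_lit 0, nat_lit 3, nat_lit 3, nat_lit 3])))
 (TT.l (Ty.relL (nat_lit 2) [nat_lit 0, nat_lit 2, nat_lit 0, nat_lit 2, nat_lit 2, nat_lit 2, nat_lit 0, nat_lit 2, nat_lit 0, nat_lit 2, nat_lit 2, nat_lit 2, nat_lit 0, nat_lit 2, nat_lit 0, nat_lit 2, nat_lit 2, nat_lit 2, nat_lit 0, nat_lit 2, nat_lit 0, nat_lit 2, nat_lit 2])))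
 (TT.n (TT.l (Ty.relL (nat_lit 3) [nat_lit 3, nat_lit 1, nat_lit 3, nat_lit 1, nat_lit 3, nat_lit 3, nat_lit 3, nat_lit 1, nat_lit 3, nat_lit 1, nat_lit 3, nat_lit 3, nat_lit 3, nat_lit 1, nat_lit 3, nat_lit 1, nat_lit 3, nat_lit 3, nat_lit 3, nat_lit 1, nat_lit 3, nat_lit 1, nat_lit 3]))
 (TT.l (Ty.relL (nat_lit 2) [nat_lit 2, nat_lit 0, nat_lit 2, nat_lit 0, nat_lit 2, nat_lit 2, nat_lit 2, nat_lit 0, nat_lit 2, nat_lit 0, nat_lit 2, nat_lit 2, nat_lit 2, nat_lit 0, nat_lit 2, nat_lit 0, nat_lit 2, nat_lit 2, nat_lit 2, nat_lit 0, nat_lit 2, nat_lit 0, nat_lit 2])))))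
 (TT.n (TT.n (TT.n (TT.n (TT.l (Ty.srel [nat_lit 2, nat_lit 1, nat_lit 3, nat_lit 0, nat_lit 2, nat_lit 1, nat_lit 3, nat_lit 0, nat_lit 2, nat_lit 1, nat_lit 3, nat_lit 0]))
 (TT.l (Ty.relL (nat_lit 1) [nat_lit 3, nat_lit 1, nat_lit 3, nat_lit 1, nat_lit 3, nat_lit 1, nat_lit 3, nat_lit 1, nat_lit 3, nat_lit 1, nat_lit 3, nat_lit 1, nat_lit 3, nat_lit 1, nat_lit 3])))
 (TT.l (Ty.srel [nat_lit 3, nat_lit 1, nat_lit 3, nat_lit 3, nat_lit 0, nat_lit 3, nat_lit 3, nat_lit 3, nat_lit 1, nat_lit 3, nat_lit 3, nat_lit 0, nat_lit 3, nat_lit 3, nat_lit 3, nat_lit 1, nat_lit 3, nat_lit 3, nat_lit 0, nat_lit 3, nat_lit 3])))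
 (TT.n (TT.l (Ty.srel [nat_lit 3, nat_lit 0, nat_lit 2, nat_lit 1, nat_lit 3, nat_lit 0, nat_lit 2, nat_lit 1, nat_lit 3, nat_lit 0, nat_lit 2, nat_lit 1]))
 (TT.l (Ty.srel [nat_lit 2, nat_lit 0, nat_lit 2, nat_lit 0, nat_lit 2, nat_lit 2, nat_lit 2, nat_lit 0, nat_lit 2, nat_lit 0, nat_lit 2, nat_lit 2, nat_lit 2, nat_lit 0, nat_lit 2, nat_lit 0, nat_lit 2, nat_lit 2, nat_lit 2, nat_lit 0, nat_lit 2, nat_lit 0, nat_lit 2, nat_lit 2]))))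
 (TT.n (TT.n (TT.l (Ty.relL (nat_lit 2) [nat_lit 0, nat_lit 2, nat_lit 0, nat_lit 2, nat_lit 0, nat_lit 2, nat_lit 0, nat_lit 2, nat_lit 0, nat_lit 2, nat_lit 0, nat_lit 2, nat_lit 0, nat_lit 2, nat_lit 0]))
 (TT.l (Ty.srel [nat_lit 2, nat_lit 2, nat_lit 0, nat_lit 2, nat_lit 0, nat_lit 2, nat_lit 2, nat_lit 2, nat_lit 0, nat_lit 2, nat_lit 0, nat_lit 2, nat_lit 2, nat_lit 2, nat_lit 0, nat_lit 2, nat_lit 0, nat_lit 2, nat_lit 2, nat_lit 2, nat_lit 0, nat_lit 2, nat_lit 0, nat_lit 2])))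
 (TT.n (TT.l (Ty.relL (nat_lit 3) [nat_lit 3, nat_lit 3, nat_lit 1, nat_lit 3, nat_lit 1, nat_lit 3, nat_lit 3, nat_lit 3, nat_lit 1, nat_lit 3, nat_lit 1, nat_lit 3, nat_lit 3, nat_lit 3, nat_lit 1, nat_lit 3, nat_lit 1, nat_lit 3, nat_lit 3, nat_lit 3, nat_lit 1, nat_lit 3, nat_lit 1]))
 (TT.l (Ty.srel [nat_lit 3, nat_lit 3, nat_lit 1, nat_lit 3, nat_lit 1, nat_lit 3, nat_lit 3, nat_lit 3, nat_lit 1, nat_lit 3, nat_lit 1, nat_lit 3, nat_lit 3, nat_lit 3, nat_lit 1, nat_lit 3, nat_lit 1, nat_lit 3, nat_lit 3, nat_lit 3, nat_lit 1, nat_lit 3, nat_lit 1, nat_lit 3]))))))))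
noncomputable def C : Cert where
  tabs := [tab0, tab1, tab2, tab3, tab4, tab5, tab6, tab7, tab8, tab9, tab10]
  tts := [ty0, ty1, ty2, ty3, ty4]
  k := nat_lit 8
  base := nat_lit 79
  mJ := nat_lit 261888
  mR := nat_lit 255
  W := nat_lit 40
  mA := nat_lit 2147483647
  mI := nat_lit 262143
  S := nat_lit 31
  mC := nat_lit 511
  nc := nat_lit 4
  lo := nat_lit 256
  live := nat_lit 126256
  hi1 := nat_lit 200425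
  AW := nat_lit 24
  mAW := nat_lit 16777215
def il : List ℕ := [1, 0, 3, 2]
def rels : List (List ℕ) := [[2, 2, 2, 2, 2, 2],
  [0, 0, 2, 0, 0, 3],
  [1, 3, 0, 2, 1, 3, 0, 2, 1, 3, 0, 2],
  [1, 2, 2, 0, 2, 2, 2, 1, 2, 2, 0, 2, 2, 2, 1, 2, 2, 0, 2, 2, 2],
  [0, 2, 0, 2, 0, 2, 0, 2, 0, 2, 0, 2, 0, 2, 0, 2],
  [0, 2, 0, 2, 2, 2, 0, 2, 0, 2, 2, 2, 0, 2, 0, 2, 2, 2, 0, 2, 0, 2, 2, 2],
  [0, 0, 0, 0]]
def subs : List (List ℕ) := [[2],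
  [0, 0]]
theorem valid : C.valid il rels subs = true := by decide +kernel
end CfH6.HST2
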